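import Cfsg.Agent.Lib.M24Classes.Coset

/-!
The elements of order 2, 3 and 7 of the group of the code, up to conjugation.
-/

set_option autoImplicit false

namespace Cfsg.Agent.Lib.M24Classes.Classes

open Cfsg Cfsg.Agent.Lib.Golay Cfsg.Agent.Lib.Computation Coset
open scoped Pointwise

abbrev P : Type := Equiv.Perm GolayPt

/-- The number of fixed points. -/
def fixCnt (g : P) : ℕ := (Finset.univ.filter fun p => g p = p).card

theorem fixCnt_conj (k g : P) : fixCnt (k * g * k⁻¹) = fixCnt g := by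
  have e : (Finset.univ.filter fun p => (k * g * k⁻¹) p = p) =
      (Finset.univ.filter fun p => g p = p).map k.toEmbedding := by
    ext p
    rw [Finset.mem_map_equiv]
    simp [Equiv.apply_eq_iff_eq_symm_apply]
  rw [fixCnt, e, Finset.card_map]; rfl

/-- Relabelling by five chosen points. -/
theorem move5 {a b c d e : GolayPt} (h : ([a, b, c, d, e] : List GolayPt).Nodup) :
    ∃ k ∈ M24, k (pt 23) = a ∧ k (pt 0) = b ∧ k (pt 1) = c ∧ k (pt 2) = d ∧ k (pt 3) = e := by
  let x : Fin 5 ↪ GolayPt := ⟨fun i => [a, b, c, d, e].get i,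
    List.nodup_iff_injective_get.mp h⟩
  obtain ⟨k, hk, hkx⟩ := exists_mem_of_five x
  refine ⟨k, hk, ?_, ?_, ?_, ?_, ?_⟩
  · have := hkx 0; rw [baseFive_eq] at this; exact this
  · have := hkx 1; rw [baseFive_eq] at this; exact this
  · have := hkx 2; rw [baseFive_eq] at this; exact this
  · have := hkx 3; rw [baseFive_eq] at this; exact this
  · have := hkx 4; rw [baseFive_eq] at this; exact this

theorem exists_new (l : List GolayPt) (h : l.length < 24) : ∃ p, p ∉ l := by
  by_contra hc
  push Not at hc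
  have h1 : (Finset.univ : Finset GolayPt) ⊆ l.toFinset := fun p _ => List.mem_toFinset.mpr (hc p)
  have h2 := (Finset.card_le_card h1).trans (List.toFinset_card_le l)
  rw [Finset.card_univ, card_golayPt] at h2
  omega

/-- The transposition of the first two base points. -/
def swapCode : ℕ := 29435622565346244453937714881988663

/-- A 3-cycle of base points. -/
def cycCode : ℕ := 29435622565346244453937714881989345

/-- The checks excluding transpositions and 3-cycles. -/
def smallOk : Bool :=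
  okCode swapCode && rows.any (fun r => !inCode (permMask swapCode r)) &&
  okCode cycCode && rows.any (fun r => !inCode (permMask cycCode r)) &&
  rows.all fun r => Nat.blt r (2 ^ 24)

theorem smallOk_true : smallOk = true := by decide +kernel

theorem not_mem_of_row {c r : ℕ} (hc : okCode c = true) (hr : r ∈ rows)
    (hn : inCode (permMask c r) = false) : gperm c ∉ M24 := by
  intro h
  have h1 := smul_mem_supports h (row_mem_octads hr).1
  rw [smul_setOfMask hc] at h1
  obtain ⟨k, hk, he⟩ := mem_supports_iff.mp h1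
  have := setOfMask_injOn (permMask_lt hc r) (enc_lt hk) he
  rw [this, inCode_enc hk] at hn
  exact absurd hn (by simp)

/-- `c` cubed is trivial. -/
def cubeOne (c : ℕ) : Bool :=
  (List.range 24).all fun i => Nat.beq (getW 5 c (getW 5 c (getW 5 c i))) i

/-- Seventh power trivial. -/
def sevenOne (c : ℕ) : Bool :=
  (List.range 24).all fun i => Nat.beq (getW 5 c (getW 5 c (getW 5 c (getW 5 c (getW 5 c (getW 5 c (getW 5 c i))))))) i

/-- Squared trivial. -/
def sqOne (c : ℕ) : Bool :=
  (List.range 24).all fun i => Nat.beq (getW 5 c (getW 5 c i)) i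

/-- `c` is conjugate to `a` or `b` by one of the listed elements. -/
def conjIn (rows : List (ℕ × ℕ)) (a b c : ℕ) : Bool :=
  rows.any fun e => Nat.beq (getW 5 e.1 3) (getW 5 c 3) && inM24 e.2 &&
    (eqComp e.2 a c e.2 || eqComp e.2 b c e.2)

theorem class2_ok : (inM24 Data.h2 && inM24 Data.rA && inM24 Data.rB &&
    (cosetCodes Data.h2).all fun c => !sqOne c || conjIn Data.conj2 Data.rA Data.rB c) = true := by
  decide +kernel

theorem class3_ok : (inM24 Data.h3 && inM24 Data.r6 && inM24 Data.r0 &&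
    (cosetCodes Data.h3).all fun c => !cubeOne c || conjIn Data.conj3 Data.r6 Data.r0 c) = true := by
  decide +kernel

theorem class7_ok : (inM24 Data.h7 && inM24 Data.r7 && inM24 Data.r7b &&
    (cosetCodes Data.h7).all fun c => !sevenOne c || conjIn Data.conj7 Data.r7 Data.r7b c) = true := by
  decide +kernel

theorem of_conjIn {l : List (ℕ × ℕ)} {a b c : ℕ} (ha : inM24 a = true) (hb : inM24 b = true)
    (hc : okCode c = true) (h : conjIn l a b c = true) {s k : P} (hk : k ∈ M24)
    (hs : s = k * gperm c * k⁻¹) :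
    ∃ m ∈ M24, s = m * gperm a * m⁻¹ ∨ s = m * gperm b * m⁻¹ := by
  simp only [conjIn, List.any_eq_true, Bool.and_eq_true, Bool.or_eq_true] at h
  obtain ⟨e, -, ⟨-, hem⟩, he⟩ := h
  have oe := okCode_of_inM24 hem
  refine ⟨k * gperm e.2, M24.mul_mem hk (gperm_mem_M24 hem), ?_⟩
  rcases he with he | he
  · left
    rw [eqComp_iff oe (okCode_of_inM24 ha) hc oe] at he
    rw [hs, mul_inv_rev, mul_assoc k (gperm e.2), he]
    group
  · right
    rw [eqComp_iff oe (okCode_of_inM24 hb) hc oe] at he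
    rw [hs, mul_inv_rev, mul_assoc k (gperm e.2), he]
    group

theorem conj_sq {s k : P} (h : s * s = 1) : (k⁻¹ * s * k) * (k⁻¹ * s * k) = 1 := by
  calc (k⁻¹ * s * k) * (k⁻¹ * s * k) = k⁻¹ * (s * s) * k := by group
    _ = 1 := by rw [h]; group

theorem idx_base : idx (pt 23) = 23 ∧ idx (pt 0) = 0 ∧ idx (pt 1) = 1 ∧ idx (pt 2) = 2 ∧ idx (pt 3) = 3 :=
  ⟨idx_pt (by norm_num), idx_pt (by norm_num), idx_pt (by norm_num), idx_pt (by norm_num), idx_pt (by norm_num)⟩

/-- Every involution is conjugate to one of two. -/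
theorem invol_conj {s : P} (hs : s ∈ M24) (h1 : s ≠ 1) (h2 : s * s = 1) :
    ∃ m ∈ M24, s = m * gperm Data.rA * m⁻¹ ∨ s = m * gperm Data.rB * m⁻¹ := by
  have hk := class2_ok
  simp only [Bool.and_eq_true, List.all_eq_true, Bool.or_eq_true, Bool.not_eq_true'] at hk
  obtain ⟨⟨⟨hh, ha⟩, hb⟩, hall⟩ := hk
  obtain ⟨a, hab⟩ : ∃ a, s a ≠ a := by
    by_contra hc; push Not at hc; exact h1 (Equiv.ext hc)
  have hs2 : ∀ p, s (s p) = p := fun p => Equiv.congr_fun h2 p
  by_cases hex : ∃ c, c ≠ a ∧ c ≠ s a ∧ s c ≠ c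
  · obtain ⟨c, hca, hcb, hcd⟩ := hex
    have n1 : s c ≠ a := fun e => hcb (by rw [← hs2 c, e])
    have n2 : s c ≠ s a := fun e => hca (s.injective e)
    obtain ⟨e, he⟩ := exists_new [a, s a, c, s c] (by norm_num)
    simp only [List.mem_cons, List.not_mem_nil, or_false, not_or] at he
    obtain ⟨k, hkm, k23, k0, k1, k2, -⟩ := move5 (a := a) (b := s a) (c := c) (d := s c) (e := e) (by
      simp [hab.symm, hca.symm, hcb.symm, hcd.symm, n1.symm, n2.symm, Ne.symm he.1, Ne.symm he.2.1,
        Ne.symm he.2.2.1, Ne.symm he.2.2.2])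
    obtain ⟨s', hs'⟩ : ∃ s', s' = k⁻¹ * s * k := ⟨_, rfl⟩
    have hval : ∀ p q, s (k p) = k q → s' p = q := fun p q h => by
      rw [hs', Equiv.Perm.mul_apply, Equiv.Perm.mul_apply, h]; exact k.symm_apply_apply q
    have e23 : s' (pt 23) = pt 0 := hval _ _ (by rw [k23, k0])
    have e0 : s' (pt 0) = pt 23 := hval _ _ (by rw [k23, k0, hs2])
    have e1 : s' (pt 1) = pt 2 := hval _ _ (by rw [k1, k2])
    have e2 : s' (pt 2) = pt 1 := hval _ _ (by rw [k1, k2, hs2])
    obtain ⟨cd, hcd', hok, hcde⟩ := exists_code hh (g := s')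
      (hs' ▸ M24.mul_mem (M24.mul_mem (M24.inv_mem hkm) hs) hkm) (by
        obtain ⟨i23, i0, i1, i2, -⟩ := idx_base
        intro i hi
        have hh' : getW 5 Data.h2 23 = 0 ∧ getW 5 Data.h2 0 = 23 ∧ getW 5 Data.h2 1 = 2 ∧
            getW 5 Data.h2 2 = 1 := by decide +kernel
        simp only [base4, List.mem_cons, List.not_mem_nil, or_false] at hi
        rcases hi with rfl | rfl | rfl | rfl
        · rw [e23, i0, hh'.1]
        · rw [e0, i23, hh'.2.1]
        · rw [e1, i2, hh'.2.2.1]
        · rw [e2, i1, hh'.2.2.2])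
    have hsq : sqOne cd = true := by
      simp only [sqOne, List.all_eq_true, List.mem_range, Nat.beq_eq]
      intro i hi
      have h := congrArg idx (Equiv.congr_fun (conj_sq (k := k) h2) (pt i))
      rw [← hs', ← hcde, Equiv.Perm.mul_apply, idx_gperm hok, idx_gperm hok, Equiv.Perm.one_apply,
        idx_pt hi] at h
      exact h
    rcases hall cd hcd' with h | h
    · rw [hsq] at h; exact absurd h (by simp)
    · exact of_conjIn ha hb hok h hkm (by rw [hcde, hs']; group)
  · push Not at hex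
    exfalso
    have hsm := smallOk_true
    simp only [smallOk, Bool.and_eq_true, List.any_eq_true, Bool.not_eq_true'] at hsm
    obtain ⟨⟨⟨⟨hok, r, hr, hn⟩, -⟩, -⟩, -⟩ := hsm
    obtain ⟨c, hc⟩ := exists_new [a, s a] (by norm_num)
    obtain ⟨d, hd⟩ := exists_new [a, s a, c] (by norm_num)
    obtain ⟨e, he⟩ := exists_new [a, s a, c, d] (by norm_num)
    simp only [List.mem_cons, List.not_mem_nil, or_false, not_or] at hc hd he
    obtain ⟨k, hkm, k23, k0, -⟩ := move5 (a := a) (b := s a) (c := c) (d := d) (e := e) (by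
      simp [hab.symm, Ne.symm hc.1, Ne.symm hc.2, Ne.symm hd.1, Ne.symm hd.2.1, Ne.symm hd.2.2,
        Ne.symm he.1, Ne.symm he.2.1, Ne.symm he.2.2.1, Ne.symm he.2.2.2])
    refine not_mem_of_row hok hr hn ?_
    have he' : gperm swapCode = k⁻¹ * s * k := by
      refine Equiv.ext fun p => ?_
      rw [Equiv.Perm.mul_apply, Equiv.Perm.mul_apply, Equiv.Perm.eq_inv_iff_eq]
      by_cases p23 : p = pt 23
      · rw [p23, apply_eq hok (show getW 5 swapCode 23 = 0 by decide +kernel) (by norm_num), k0, k23]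
      by_cases p0 : p = pt 0
      · rw [p0, apply_eq hok (show getW 5 swapCode 0 = 23 by decide +kernel) (by norm_num), k0, k23, hs2]
      · have hfix : gperm swapCode p = p := by
          apply idx_injective
          rw [idx_gperm hok]
          have : ∀ i < 24, i = 23 ∨ i = 0 ∨ getW 5 swapCode i = i := by decide +kernel
          rcases this _ (idx_lt p) with h | h | h
          · exact absurd (by rw [← pt_idx p, h]) p23
          · exact absurd (by rw [← pt_idx p, h]) p0
          · exact h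
        rw [hfix, hex (k p) (fun e => p23 (k.injective (e.trans k23.symm)))
          (fun e => p0 (k.injective (e.trans k0.symm)))]
    rw [he']; exact M24.mul_mem (M24.mul_mem (M24.inv_mem hkm) hs) hkm
where
  apply_eq {c i j : ℕ} (hc : okCode c = true) (h : getW 5 c i = j) (hi : i < 24) :
      gperm c (pt i) = pt j := by
    apply idx_injective
    rw [idx_gperm hc, idx_pt hi, h, idx_pt (h ▸ getW_lt hc hi)]

/-- Every element of order 3 is conjugate to one of two. -/
theorem three_conj {s : P} (hs : s ∈ M24) (h1 : s ≠ 1) (h3 : s * s * s = 1) :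
    ∃ m ∈ M24, s = m * gperm Data.r6 * m⁻¹ ∨ s = m * gperm Data.r0 * m⁻¹ := by
  have hk := class3_ok
  simp only [Bool.and_eq_true, List.all_eq_true, Bool.or_eq_true, Bool.not_eq_true'] at hk
  obtain ⟨⟨⟨hh, ha⟩, hb⟩, hall⟩ := hk
  have hs3 : ∀ p, s (s (s p)) = p := fun p => Equiv.congr_fun h3 p
  obtain ⟨a, hab⟩ : ∃ a, s a ≠ a := by
    by_contra hc; push Not at hc; exact h1 (Equiv.ext hc)
  have hbc : s (s a) ≠ s a := fun e => hab (s.injective e)
  have hac : s (s a) ≠ a := fun e => hab (by conv_rhs => rw [← hs3 a, e])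
  by_cases hex : ∃ d, d ≠ a ∧ d ≠ s a ∧ d ≠ s (s a) ∧ s d ≠ d
  · obtain ⟨d, da, db, dc, hd⟩ := hex
    have n1 : s d ≠ a := fun e => dc (s.injective (e.trans (hs3 a).symm))
    have n2 : s d ≠ s a := fun e => da (s.injective e)
    have n3 : s d ≠ s (s a) := fun e => db (s.injective e)
    obtain ⟨k, hkm, k23, k0, k1, k2, k3⟩ := move5 (a := a) (b := s a) (c := s (s a)) (d := d) (e := s d) (by
      simp [hab.symm, hac.symm, hbc.symm, da.symm, db.symm, dc.symm, hd.symm, n1.symm, n2.symm, n3.symm])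
    obtain ⟨s', hs'⟩ : ∃ s', s' = k⁻¹ * s * k := ⟨_, rfl⟩
    have hval : ∀ p q, s (k p) = k q → s' p = q := fun p q h => by
      rw [hs', Equiv.Perm.mul_apply, Equiv.Perm.mul_apply, h]; exact k.symm_apply_apply q
    have e23 : s' (pt 23) = pt 0 := hval _ _ (by rw [k23, k0])
    have e0 : s' (pt 0) = pt 1 := hval _ _ (by rw [k0, k1])
    have e1 : s' (pt 1) = pt 23 := hval _ _ (by rw [k23, k1, hs3])
    have e2 : s' (pt 2) = pt 3 := hval _ _ (by rw [k2, k3])
    obtain ⟨cd, hcd', hok, hcde⟩ := exists_code hh (g := s')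
      (hs' ▸ M24.mul_mem (M24.mul_mem (M24.inv_mem hkm) hs) hkm) (by
        obtain ⟨i23, i0, i1, i2, i3⟩ := idx_base
        intro i hi
        have hh' : getW 5 Data.h3 23 = 0 ∧ getW 5 Data.h3 0 = 1 ∧ getW 5 Data.h3 1 = 23 ∧
            getW 5 Data.h3 2 = 3 := by decide +kernel
        simp only [base4, List.mem_cons, List.not_mem_nil, or_false] at hi
        rcases hi with rfl | rfl | rfl | rfl
        · rw [e23, i0, hh'.1]
        · rw [e0, i1, hh'.2.1]
        · rw [e1, i23, hh'.2.2.1]
        · rw [e2, i3, hh'.2.2.2])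
    have hcube : cubeOne cd = true := by
      simp only [cubeOne, List.all_eq_true, List.mem_range, Nat.beq_eq]
      intro i hi
      have e : s' * s' * s' = 1 := by
        calc s' * s' * s' = k⁻¹ * (s * s * s) * k := by rw [hs']; group
          _ = 1 := by rw [h3]; group
      have h := congrArg idx (Equiv.congr_fun e (pt i))
      rw [← hcde, Equiv.Perm.mul_apply, Equiv.Perm.mul_apply, idx_gperm hok, idx_gperm hok,
        idx_gperm hok, Equiv.Perm.one_apply, idx_pt hi] at h
      exact h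
    rcases hall cd hcd' with h | h
    · rw [hcube] at h; exact absurd h (by simp)
    · exact of_conjIn ha hb hok h hkm (by rw [hcde, hs']; group)
  · push Not at hex
    exfalso
    have hsm := smallOk_true
    simp only [smallOk, Bool.and_eq_true, List.any_eq_true, Bool.not_eq_true'] at hsm
    obtain ⟨⟨⟨-, hok⟩, r, hr, hn⟩, -⟩ := hsm
    obtain ⟨d, hd⟩ := exists_new [a, s a, s (s a)] (by norm_num)
    obtain ⟨e, he⟩ := exists_new [a, s a, s (s a), d] (by norm_num)
    simp only [List.mem_cons, List.not_mem_nil, or_false, not_or] at hd he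
    obtain ⟨k, hkm, k23, k0, k1, -⟩ := move5 (a := a) (b := s a) (c := s (s a)) (d := d) (e := e) (by
      simp [hab.symm, hac.symm, hbc.symm, Ne.symm hd.1, Ne.symm hd.2.1, Ne.symm hd.2.2,
        Ne.symm he.1, Ne.symm he.2.1, Ne.symm he.2.2.1, Ne.symm he.2.2.2])
    refine not_mem_of_row hok hr hn ?_
    have he' : gperm cycCode = k⁻¹ * s * k := by
      refine Equiv.ext fun p => ?_
      rw [Equiv.Perm.mul_apply, Equiv.Perm.mul_apply, Equiv.Perm.eq_inv_iff_eq]
      by_cases p23 : p = pt 23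
      · rw [p23, invol_conj.apply_eq hok (show getW 5 cycCode 23 = 0 by decide +kernel) (by norm_num), k0, k23]
      by_cases p0 : p = pt 0
      · rw [p0, invol_conj.apply_eq hok (show getW 5 cycCode 0 = 1 by decide +kernel) (by norm_num), k0, k1]
      by_cases p1 : p = pt 1
      · rw [p1, invol_conj.apply_eq hok (show getW 5 cycCode 1 = 23 by decide +kernel) (by norm_num), k1, k23, hs3]
      · have hfix : gperm cycCode p = p := by
          apply idx_injective
          rw [idx_gperm hok]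
          have : ∀ i < 24, i = 23 ∨ i = 0 ∨ i = 1 ∨ getW 5 cycCode i = i := by decide +kernel
          rcases this _ (idx_lt p) with h | h | h | h
          · exact absurd (by rw [← pt_idx p, h]) p23
          · exact absurd (by rw [← pt_idx p, h]) p0
          · exact absurd (by rw [← pt_idx p, h]) p1
          · exact h
        rw [hfix, hex (k p) (fun e => p23 (k.injective (e.trans k23.symm)))
          (fun e => p0 (k.injective (e.trans k0.symm))) (fun e => p1 (k.injective (e.trans k1.symm)))]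
    rw [he']; exact M24.mul_mem (M24.mul_mem (M24.inv_mem hkm) hs) hkm

/-- Every element of order 7 is conjugate to one of two mutually inverse ones. -/
theorem seven_conj {s : P} (hs : s ∈ M24) (h7 : orderOf s = 7) :
    ∃ m ∈ M24, s = m * gperm Data.r7 * m⁻¹ ∨ s = m * gperm Data.r7b * m⁻¹ := by
  have hk := class7_ok
  simp only [Bool.and_eq_true, List.all_eq_true, Bool.or_eq_true, Bool.not_eq_true'] at hk
  obtain ⟨⟨⟨hh, ha⟩, hb⟩, hall⟩ := hk
  have h1 : s ≠ 1 := fun e => by simp [e] at h7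
  obtain ⟨a, hab⟩ : ∃ a, s a ≠ a := by
    by_contra hc; push Not at hc; exact h1 (Equiv.ext hc)
  have hs7 : s ^ 7 = 1 := h7 ▸ pow_orderOf_eq_one s
  have hper : Function.minimalPeriod s a = 7 := by
    have hdvd : Function.minimalPeriod s a ∣ 7 := by
      refine Function.IsPeriodicPt.minimalPeriod_dvd ?_
      show s^[7] a = a
      rw [← Equiv.Perm.coe_pow, hs7]; rfl
    rcases (Nat.dvd_prime (by norm_num)).mp hdvd with h | h
    · exact absurd (Function.minimalPeriod_eq_one_iff_isFixedPt.mp h) hab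
    · exact h
  have hinj : ∀ i j, i < 5 → j < 5 → s^[i] a = s^[j] a → i = j := fun i j hi hj h =>
    Function.iterate_injOn_Iio_minimalPeriod (show i ∈ Set.Iio _ by rw [hper]; exact Set.mem_Iio.mpr (by omega))
      (show j ∈ Set.Iio _ by rw [hper]; exact Set.mem_Iio.mpr (by omega)) h
  obtain ⟨k, hkm, k23, k0, k1, k2, k3⟩ := move5 (a := s^[0] a) (b := s^[1] a) (c := s^[2] a)
      (d := s^[3] a) (e := s^[4] a) (by
    have : ([0, 1, 2, 3, 4] : List ℕ).map (fun i => s^[i] a) = [s^[0] a, s^[1] a, s^[2] a, s^[3] a, s^[4] a] := rfl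
    rw [← this]
    refine List.Nodup.map_on (fun i hi j hj h => hinj i j ?_ ?_ h) (by decide)
    · simp only [List.mem_cons, List.not_mem_nil, or_false] at hi; omega
    · simp only [List.mem_cons, List.not_mem_nil, or_false] at hj; omega)
  obtain ⟨s', hs'⟩ : ∃ s', s' = k⁻¹ * s * k := ⟨_, rfl⟩
  have hval : ∀ p q, s (k p) = k q → s' p = q := fun p q h => by
    rw [hs', Equiv.Perm.mul_apply, Equiv.Perm.mul_apply, h]; exact k.symm_apply_apply q
  have e23 : s' (pt 23) = pt 0 := hval _ _ (by rw [k23, k0]; rfl)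
  have e0 : s' (pt 0) = pt 1 := hval _ _ (by rw [k0, k1]; rfl)
  have e1 : s' (pt 1) = pt 2 := hval _ _ (by rw [k1, k2]; rfl)
  have e2 : s' (pt 2) = pt 3 := hval _ _ (by rw [k2, k3]; rfl)
  obtain ⟨cd, hcd', hok, hcde⟩ := exists_code hh (g := s')
    (hs' ▸ M24.mul_mem (M24.mul_mem (M24.inv_mem hkm) hs) hkm) (by
      obtain ⟨i23, i0, i1, i2, i3⟩ := idx_base
      intro i hi
      have hh' : getW 5 Data.h7 23 = 0 ∧ getW 5 Data.h7 0 = 1 ∧ getW 5 Data.h7 1 = 2 ∧
          getW 5 Data.h7 2 = 3 := by decide +kernel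
      simp only [base4, List.mem_cons, List.not_mem_nil, or_false] at hi
      rcases hi with rfl | rfl | rfl | rfl
      · rw [e23, i0, hh'.1]
      · rw [e0, i1, hh'.2.1]
      · rw [e1, i2, hh'.2.2.1]
      · rw [e2, i3, hh'.2.2.2])
  have hseven : sevenOne cd = true := by
    simp only [sevenOne, List.all_eq_true, List.mem_range, Nat.beq_eq]
    intro i hi
    have e : s' ^ 7 = 1 := by
      rw [hs', show k⁻¹ * s * k = k⁻¹ * s * k⁻¹⁻¹ by rw [inv_inv], conj_pow, hs7]; group
    have h := congrArg idx (Equiv.congr_fun e (pt i))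
    rw [← hcde, Equiv.Perm.coe_pow, Equiv.Perm.one_apply, idx_pt hi] at h
    simp only [Function.iterate_succ', Function.iterate_zero, Function.comp_apply, id,
      idx_gperm hok, idx_pt hi] at h
    exact h
  rcases hall cd hcd' with h | h
  · rw [hseven] at h; exact absurd h (by simp)
  · exact of_conjIn ha hb hok h hkm (by rw [hcde, hs']; group)

theorem fixNums : (Nat.beq (fixNum Data.rA) 8 && Nat.beq (fixNum Data.rB) 0 &&
    Nat.beq (fixNum Data.r6) 6 && Nat.beq (fixNum Data.r0) 0) = true := by decide +kernel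

theorem fixCnt_rA : fixCnt (gperm Data.rA) = 8 := by
  have hc := class2_ok
  have h := fixNums
  simp only [Bool.and_eq_true, Nat.beq_eq] at h hc
  rw [fixCnt, card_fixed (okCode_of_inM24 hc.1.1.2), h.1.1.1]

theorem fixCnt_rB : fixCnt (gperm Data.rB) = 0 := by
  have hc := class2_ok
  have h := fixNums
  simp only [Bool.and_eq_true, Nat.beq_eq] at h hc
  rw [fixCnt, card_fixed (okCode_of_inM24 hc.1.2), h.1.1.2]

theorem fixCnt_r6 : fixCnt (gperm Data.r6) = 6 := by
  have hc := class3_ok
  have h := fixNums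
  simp only [Bool.and_eq_true, Nat.beq_eq] at h hc
  rw [fixCnt, card_fixed (okCode_of_inM24 hc.1.1.2), h.1.2]

theorem fixCnt_r0 : fixCnt (gperm Data.r0) = 0 := by
  have hc := class3_ok
  have h := fixNums
  simp only [Bool.and_eq_true, Nat.beq_eq] at h hc
  rw [fixCnt, card_fixed (okCode_of_inM24 hc.1.2), h.2]

theorem invol_of_eight {s : P} (hs : s ∈ M24) (h1 : s ≠ 1) (h2 : s * s = 1) (h8 : fixCnt s = 8) :
    ∃ m ∈ M24, s = m * gperm Data.rA * m⁻¹ := by
  obtain ⟨m, hm, e | e⟩ := invol_conj hs h1 h2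
  · exact ⟨m, hm, e⟩
  · rw [e, fixCnt_conj, fixCnt_rB] at h8; omega

theorem invol_of_zero {s : P} (hs : s ∈ M24) (h1 : s ≠ 1) (h2 : s * s = 1) (h0 : fixCnt s = 0) :
    ∃ m ∈ M24, s = m * gperm Data.rB * m⁻¹ := by
  obtain ⟨m, hm, e | e⟩ := invol_conj hs h1 h2
  · rw [e, fixCnt_conj, fixCnt_rA] at h0; omega
  · exact ⟨m, hm, e⟩

theorem three_of_six {s : P} (hs : s ∈ M24) (h1 : s ≠ 1) (h3 : s * s * s = 1) (h6 : fixCnt s = 6) :
    ∃ m ∈ M24, s = m * gperm Data.r6 * m⁻¹ := by
  obtain ⟨m, hm, e | e⟩ := three_conj hs h1 h3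
  · exact ⟨m, hm, e⟩
  · rw [e, fixCnt_conj, fixCnt_r0] at h6; omega

theorem three_of_zero {s : P} (hs : s ∈ M24) (h1 : s ≠ 1) (h3 : s * s * s = 1) (h0 : fixCnt s = 0) :
    ∃ m ∈ M24, s = m * gperm Data.r0 * m⁻¹ := by
  obtain ⟨m, hm, e | e⟩ := three_conj hs h1 h3
  · rw [e, fixCnt_conj, fixCnt_r6] at h0; omega
  · exact ⟨m, hm, e⟩

end Cfsg.Agent.Lib.M24Classes.Classes
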