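import Cfsg.Agent.Lib.M24Classes.Enum

/-!
Centralisers of the representatives of order 2, 3, 7, and the normaliser for order 7.
-/

set_option autoImplicit false
set_option maxRecDepth 100000

namespace Cfsg.Agent.Lib.M24Classes.Centralizers

open Cfsg Cfsg.Agent.Lib.Golay Cfsg.Agent.Lib.Computation Coset Enum
open Classes (P)

/-- The centraliser inside the group of the code. -/
def cent (R : P) : Subgroup P := M24 ⊓ Subgroup.centralizer ({R} : Set P)

theorem mem_cent {R g : P} : g ∈ cent R ↔ g ∈ M24 ∧ g * R = R * g := by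
  rw [cent, Subgroup.mem_inf, Subgroup.mem_centralizer_iff]
  exact ⟨fun h => ⟨h.1, (h.2 R rfl).symm⟩, fun h => ⟨h.1, fun x hx => by
    rw [Set.mem_singleton_iff.mp hx]; exact h.2.symm⟩⟩

/-- Moved indices. -/
def moved (r p : ℕ) : Bool := !Nat.beq (getW 5 r p) p

/-- The four images agree. -/
def imgsAre (h a b c d : ℕ) : Bool :=
  Nat.beq (getW 5 h 23) a && Nat.beq (getW 5 h 0) b && Nat.beq (getW 5 h 1) c && Nat.beq (getW 5 h 2) d

/-- The coset list covers all possibilities, order 2. -/
def cosOk2 (r : ℕ) (cosets : List ℕ) : Bool :=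
  (List.range 24).all fun q => Nat.beq q 23 || Nat.beq q 0 || !moved r q ||
    cosets.any fun h => imgsAre h 23 0 q (getW 5 r q)

/-- The coset list covers all possibilities, order 3. -/
def cosOk3 (cosets : List ℕ) : Bool :=
  (List.range 24).all fun q => Nat.beq q 23 || Nat.beq q 0 || Nat.beq q 1 ||
    cosets.any fun h => imgsAre h 23 0 1 q

theorem imgsAre_spec {h a b c d : ℕ} (hh : imgsAre h a b c d = true) {g : P}
    (e23 : idx (g (pt 23)) = a) (e0 : idx (g (pt 0)) = b) (e1 : idx (g (pt 1)) = c)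
    (e2 : idx (g (pt 2)) = d) : ∀ i ∈ base4, idx (g (pt i)) = getW 5 h i := by
  simp only [imgsAre, Bool.and_eq_true, Nat.beq_eq] at hh
  intro i hi
  simp only [base4, List.mem_cons, List.not_mem_nil, or_false] at hi
  rcases hi with rfl | rfl | rfl | rfl
  · rw [e23, hh.1.1.1]
  · rw [e0, hh.1.1.2]
  · rw [e1, hh.1.2]
  · rw [e2, hh.2]

theorem comm_apply {R g : P} (hg : g ∈ cent R) (p : GolayPt) : g (R p) = R (g p) :=
  Equiv.congr_fun (mem_cent.mp hg).2 p

theorem idx_pt_ne {p : GolayPt} {i : ℕ} (hi : i < 24) (h : p ≠ pt i) : idx p ≠ i :=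
  fun e => h (by rw [← pt_idx p, e])

theorem hpt_cent {r : ℕ} (hr : inM24 r = true) (h23 : getW 5 r 23 = 0) :
    ∀ g ∈ cent (gperm r), moved r (idx (g (pt 23))) = true := by
  intro g hg
  have ok := okCode_of_inM24 hr
  rw [moved, Bool.not_eq_true', Bool.eq_false_iff, ne_eq, Nat.beq_eq]
  intro e
  rw [← idx_gperm ok] at e
  have h1 : g (gperm r (pt 23)) = g (pt 23) := (comm_apply hg _).trans (idx_injective e)
  have h2 := congrArg idx (g.injective h1)
  rw [idx_gperm ok, idx_pt (by norm_num : 23 < 24), h23] at h2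
  omega

theorem hcos2 {r : ℕ} {cosets : List ℕ} (hr : inM24 r = true)
    (himg : imgsAre r 0 23 2 1 = true) (hc : cosOk2 r cosets = true) :
    ∀ g ∈ cent (gperm r), g (pt 23) = pt 23 →
      ∃ h ∈ cosets, ∀ i ∈ base4, idx (g (pt i)) = getW 5 h i := by
  intro g hg h23
  have ok := okCode_of_inM24 hr
  simp only [imgsAre, Bool.and_eq_true, Nat.beq_eq] at himg
  simp only [cosOk2, List.all_eq_true, List.any_eq_true, Bool.or_eq_true, Bool.not_eq_true',
    Nat.beq_eq, List.mem_range] at hc
  have e0 : g (pt 0) = pt 0 := by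
    have h : gperm r (pt 23) = pt 0 := apply_pt hr (by norm_num) himg.1.1.1
    rw [← h, comm_apply hg, h23]
  have e12 : g (pt 2) = gperm r (g (pt 1)) := by
    rw [← comm_apply hg, apply_pt hr (by norm_num : 1 < 24) himg.1.2]
  have n23 : idx (g (pt 1)) ≠ 23 := idx_pt_ne (by norm_num) (fun e => by
    have := congrArg idx (g.injective (e.trans h23.symm))
    rw [idx_pt (by norm_num : 1 < 24), idx_pt (by norm_num : 23 < 24)] at this; omega)
  have n0 : idx (g (pt 1)) ≠ 0 := idx_pt_ne (by norm_num) (fun e => by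
    have := congrArg idx (g.injective (e.trans e0.symm))
    rw [idx_pt (by norm_num : 1 < 24), idx_pt (by norm_num : 0 < 24)] at this; omega)
  rcases hc (idx (g (pt 1))) (idx_lt _) with ((h | h) | h) | ⟨x, hx, hxe⟩
  · exact absurd h n23
  · exact absurd h n0
  · exfalso
    rw [moved, Bool.not_eq_false', Nat.beq_eq, ← idx_gperm ok, ← e12] at h
    have := congrArg idx (g.injective (idx_injective h))
    rw [idx_pt (by norm_num : 2 < 24), idx_pt (by norm_num : 1 < 24)] at this; omega
  · refine ⟨x, hx, imgsAre_spec hxe ?_ ?_ rfl ?_⟩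
    · rw [h23, idx_pt (by norm_num : 23 < 24)]
    · rw [e0, idx_pt (by norm_num : 0 < 24)]
    · rw [e12, idx_gperm ok]

theorem hcos3 {r : ℕ} {cosets : List ℕ} (hr : inM24 r = true)
    (himg : imgsAre r 0 1 23 3 = true) (hc : cosOk3 cosets = true) :
    ∀ g ∈ cent (gperm r), g (pt 23) = pt 23 →
      ∃ h ∈ cosets, ∀ i ∈ base4, idx (g (pt i)) = getW 5 h i := by
  intro g hg h23
  simp only [imgsAre, Bool.and_eq_true, Nat.beq_eq] at himg
  simp only [cosOk3, List.all_eq_true, List.any_eq_true, Bool.or_eq_true, Nat.beq_eq,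
    List.mem_range] at hc
  have e0 : g (pt 0) = pt 0 := by
    have h : gperm r (pt 23) = pt 0 := apply_pt hr (by norm_num) himg.1.1.1
    rw [← h, comm_apply hg, h23]
  have e1 : g (pt 1) = pt 1 := by
    have h : gperm r (pt 0) = pt 1 := apply_pt hr (by norm_num) himg.1.1.2
    rw [← h, comm_apply hg, e0]
  have ne : ∀ i < 24, i ≠ 2 → g (pt i) = pt i → idx (g (pt 2)) ≠ i := by
    intro i hi hne e h
    have h' : g (pt 2) = g (pt i) := by rw [e, ← pt_idx (g (pt 2)), h]
    have := congrArg idx (g.injective h')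
    rw [idx_pt (by norm_num : 2 < 24), idx_pt hi] at this; omega
  rcases hc (idx (g (pt 2))) (idx_lt _) with ((h | h) | h) | ⟨x, hx, hxe⟩
  · exact absurd h (ne 23 (by norm_num) (by norm_num) h23)
  · exact absurd h (ne 0 (by norm_num) (by norm_num) e0)
  · exact absurd h (ne 1 (by norm_num) (by norm_num) e1)
  · refine ⟨x, hx, imgsAre_spec hxe ?_ ?_ ?_ rfl⟩
    · rw [h23, idx_pt (by norm_num : 23 < 24)]
    · rw [e0, idx_pt (by norm_num : 0 < 24)]
    · rw [e1, idx_pt (by norm_num : 1 < 24)]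

theorem htest {r : ℕ} (hr : inM24 r = true) :
    ∀ c, okCode c = true → (commTest r c = true ↔ gperm c ∈ cent (gperm r)) :=
  fun _ hc => commTest_iff hr hc

/-- One certificate for order 2. -/
def ok2 (r : ℕ) (orb cosets stab : List ℕ) : Bool :=
  inM24 r && imgsAre r 0 23 2 1 && cosOk2 r cosets && enumOk (commTest r) (moved r) orb cosets stab &&
    Nat.beq (foundComm r cosets).length stab.length

/-- One certificate for order 3. -/
def ok3 (r : ℕ) (orb cosets stab : List ℕ) : Bool :=
  inM24 r && imgsAre r 0 1 23 3 && cosOk3 cosets && enumOk (commTest r) (moved r) orb cosets stab &&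
    Nat.beq (foundComm r cosets).length stab.length

theorem card2 {r : ℕ} {orb cosets stab : List ℕ} (h : ok2 r orb cosets stab = true) :
    Nat.card ↥(cent (gperm r)) = orb.length * stab.length := by
  simp only [ok2, Bool.and_eq_true, Nat.beq_eq] at h
  refine Enum.card_eq inf_le_left (htest h.1.1.1.1) (hpt_cent h.1.1.1.1 ?_) h.1.2 (hcos2 h.1.1.1.1 h.1.1.1.2 h.1.1.2)
    ((congrArg List.length (found_commTest h.1.1.1.1)).trans h.2)
  have := h.1.1.1.2
  simp only [imgsAre, Bool.and_eq_true, Nat.beq_eq] at this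
  exact this.1.1.1

theorem product2 {r : ℕ} {orb cosets stab : List ℕ} (h : ok2 r orb cosets stab = true) {g : P}
    (hg : g ∈ cent (gperm r)) :
    ∃ a ∈ orb, ∃ b ∈ stab, g = gperm a * gperm b := by
  simp only [ok2, Bool.and_eq_true, Nat.beq_eq] at h
  refine Enum.exists_stab_product inf_le_left (htest h.1.1.1.1) (hpt_cent h.1.1.1.1 ?_) h.1.2
    (hcos2 h.1.1.1.1 h.1.1.1.2 h.1.1.2)
    ((congrArg List.length (found_commTest h.1.1.1.1)).trans h.2) hg
  have := h.1.1.1.2
  simp only [imgsAre, Bool.and_eq_true, Nat.beq_eq] at this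
  exact this.1.1.1

theorem card3 {r : ℕ} {orb cosets stab : List ℕ} (h : ok3 r orb cosets stab = true) :
    Nat.card ↥(cent (gperm r)) = orb.length * stab.length := by
  simp only [ok3, Bool.and_eq_true, Nat.beq_eq] at h
  refine Enum.card_eq inf_le_left (htest h.1.1.1.1) (hpt_cent h.1.1.1.1 ?_) h.1.2 (hcos3 h.1.1.1.1 h.1.1.1.2 h.1.1.2)
    ((congrArg List.length (found_commTest h.1.1.1.1)).trans h.2)
  have := h.1.1.1.2
  simp only [imgsAre, Bool.and_eq_true, Nat.beq_eq] at this
  exact this.1.1.1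

theorem product3 {r : ℕ} {orb cosets stab : List ℕ} (h : ok3 r orb cosets stab = true) {g : P}
    (hg : g ∈ cent (gperm r)) :
    ∃ a ∈ orb, ∃ b ∈ stab, g = gperm a * gperm b := by
  simp only [ok3, Bool.and_eq_true, Nat.beq_eq] at h
  refine Enum.exists_stab_product inf_le_left (htest h.1.1.1.1) (hpt_cent h.1.1.1.1 ?_) h.1.2
    (hcos3 h.1.1.1.1 h.1.1.1.2 h.1.1.2)
    ((congrArg List.length (found_commTest h.1.1.1.1)).trans h.2) hg
  have := h.1.1.1.2
  simp only [imgsAre, Bool.and_eq_true, Nat.beq_eq] at this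
  exact this.1.1.1

theorem okA : ok2 Data.rA Data.orbA Data.cosA Data.stabA = true := by decide +kernel

theorem okB : ok2 Data.rB Data.orbB Data.cosB Data.stabB = true := by decide +kernel

theorem ok6 : ok3 Data.r6 Data.orb6 Data.cos6 Data.stab6 = true := by decide +kernel

theorem ok0 : ok3 Data.r0 Data.orb0 Data.cos0 Data.stab0 = true := by decide +kernel

theorem card_centA : Nat.card ↥(cent (gperm Data.rA)) = 21504 := by rw [card2 okA]; rfl

theorem card_centB : Nat.card ↥(cent (gperm Data.rB)) = 7680 := by rw [card2 okB]; rfl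

theorem card_cent6 : Nat.card ↥(cent (gperm Data.r6)) = 1080 := by rw [card3 ok6]; rfl

theorem card_cent0 : Nat.card ↥(cent (gperm Data.r0)) = 504 := by rw [card3 ok0]; rfl

end Cfsg.Agent.Lib.M24Classes.Centralizers
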