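import Cfsg.Agent.Lib.Golay.M24
import Cfsg.Agent.Lib.M24Classes.Data

/-!
All elements with prescribed images of the first four base points, as an explicit list of codes.
-/

set_option autoImplicit false

namespace Cfsg.Agent.Lib.M24Classes.Coset

open Cfsg Cfsg.Agent.Lib.Golay Cfsg.Agent.Lib.Computation
open scoped Pointwise

/-- Indices of the first four base points. -/
def base4 : List ℕ := [23, 0, 1, 2]

/-- The check on the three transversals. -/
def transOk : Bool :=
  Data.t5.all (fun c => inM24 c && base4.all fun i => Nat.beq (getW 5 c i) i) &&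
  Data.t6.all (fun c => inM24 c && [23, 0, 1, 2, 3].all fun i => Nat.beq (getW 5 c i) i) &&
  Data.t7.all (fun c => inM24 c && [23, 0, 1, 2, 3, 5].all fun i => Nat.beq (getW 5 c i) i) &&
  (List.range 24).all (fun p => base4.any (fun i => Nat.beq i p) || Data.t5.any fun c => Nat.beq (getW 5 c 3) p) &&
  (List.range 24).all (fun p => [23, 0, 1, 2, 3].any (fun i => Nat.beq i p) || !(8536111 : ℕ).testBit p ||
    Data.t6.any fun c => Nat.beq (getW 5 c 5) p) &&
  (List.range 24).all (fun p => (8536111 : ℕ).testBit p || Data.t7.any fun c => Nat.beq (getW 5 c 4) p)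

theorem transOk_true : transOk = true := by decide +kernel

/-- The products of the transversal elements. -/
def tails : List ℕ :=
  Data.t5.flatMap fun a => Data.t6.flatMap fun b => Data.t7.map fun c => mulP 24 5 a (mulP 24 5 b c)

/-- The elements with the same images of the first four base points as `h`. -/
def cosetCodes (h : ℕ) : List ℕ := tails.map (mulP 24 5 h)

theorem baseFive_eq : ∀ i : Fin 5, baseFive i = pt ([23, 0, 1, 2, 3].getD i.val 0) := by decide +kernel

theorem base67_eq : basePt6 = pt 5 ∧ basePt7 = pt 4 := by decide +kernel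

theorem apply_pt {c i j : ℕ} (hc : inM24 c = true) (hi : i < 24) (h : getW 5 c i = j) :
    gperm c (pt i) = pt j := by
  apply idx_injective
  rw [idx_gperm (okCode_of_inM24 hc), idx_pt hi, h, idx_pt (h ▸ getW_lt (okCode_of_inM24 hc) hi)]

/-- Every element fixing the first four base points is a product of transversal elements. -/
theorem exists_tail {g : Equiv.Perm GolayPt} (hg : g ∈ M24) (hfix : ∀ i ∈ base4, g (pt i) = pt i) :
    ∃ c ∈ tails, okCode c = true ∧ gperm c = g := by
  have h := transOk_true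
  simp only [transOk, Bool.and_eq_true, List.all_eq_true, List.any_eq_true, Bool.or_eq_true,
    Bool.not_eq_true', Nat.beq_eq, List.mem_range] at h
  obtain ⟨⟨⟨⟨⟨h5, h6⟩, h7⟩, c5⟩, c6⟩, c7⟩ := h
  have base4_lt : ∀ i ∈ base4, i < 24 := by decide
  -- the fifth point
  have hne5 : ∀ i ∈ base4, ¬ i = idx (g (pt 3)) := by
    intro i hi he
    have hh : g (pt i) = g (pt 3) := by rw [hfix i hi, he, pt_idx]
    have := congrArg idx (g.injective hh)
    rw [idx_pt (base4_lt i hi), idx_pt (by norm_num)] at this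
    subst this
    simp [base4] at hi
  rcases c5 (idx (g (pt 3))) (idx_lt _) with ⟨i, hi, he⟩ | ⟨a, ha, hae⟩
  · exact absurd he (hne5 i hi)
  have ha' := apply_pt (h5 a ha).1 (by norm_num : 3 < 24) hae
  rw [pt_idx] at ha'
  obtain ⟨g₁, hg₁def⟩ : ∃ g₁, g₁ = (gperm a)⁻¹ * g := ⟨_, rfl⟩
  have hg₁ : g₁ ∈ M24 := hg₁def ▸ M24.mul_mem (M24.inv_mem (gperm_mem_M24 (h5 a ha).1)) hg
  have fix1 : ∀ i ∈ [23, 0, 1, 2, 3], g₁ (pt i) = pt i := by
    intro i hi
    rw [hg₁def, Equiv.Perm.mul_apply, Equiv.Perm.inv_eq_iff_eq]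
    by_cases hi' : i ∈ base4
    · rw [hfix i hi', apply_pt (h5 a ha).1 (base4_lt i hi') ((h5 a ha).2 i hi')]
    · have : i = 3 := by simp [base4] at hi hi'; omega
      subst this; exact ha'.symm
  have base5_lt : ∀ i ∈ [23, 0, 1, 2, 3], i < 24 := by decide
  have hfive : ∀ i, g₁ (baseFive i) = baseFive i := by
    intro i
    rw [baseFive_eq]
    exact fix1 _ (by fin_cases i <;> simp)
  have hoct : g₁ • baseOctad = baseOctad := by
    refine smul_octad_eq hg₁ baseOctad_mem (s := rangeOf baseFive) (by simp [rangeOf]) ?_ ?_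
    · intro p hp
      simp only [rangeOf, Finset.mem_map, Finset.mem_univ, true_and] at hp
      obtain ⟨i, rfl⟩ := hp
      exact baseFive_mem i
    · intro p hp
      simp only [rangeOf, Finset.mem_map, Finset.mem_univ, true_and] at hp
      obtain ⟨i, rfl⟩ := hp
      exact hfive i
  -- the sixth point
  have h5oct : (8536111 : ℕ).testBit (idx (g₁ (pt 5))) = true := by
    have h1 : g₁ (pt 5) ∈ g₁ • baseOctad :=
      Finset.mem_smul_finset.mpr ⟨pt 5, base67_eq.1 ▸ basePt6_mem.1, rfl⟩
    rw [hoct, baseOctad, mem_setOfMask] at h1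
    exact h1
  have hne6 : ∀ i ∈ [23, 0, 1, 2, 3], ¬ i = idx (g₁ (pt 5)) := by
    intro i hi he
    have hh : g₁ (pt i) = g₁ (pt 5) := by rw [fix1 i hi, he, pt_idx]
    have := congrArg idx (g₁.injective hh)
    rw [idx_pt (base5_lt i hi), idx_pt (by norm_num)] at this
    subst this
    simp at hi
  rcases c6 (idx (g₁ (pt 5))) (idx_lt _) with (⟨i, hi, he⟩ | he) | ⟨b, hb, hbe⟩
  · exact absurd he (hne6 i hi)
  · rw [h5oct] at he; exact absurd he (by simp)
  have hb' := apply_pt (h6 b hb).1 (by norm_num : 5 < 24) hbe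
  rw [pt_idx] at hb'
  obtain ⟨g₂, hg₂def⟩ : ∃ g₂, g₂ = (gperm b)⁻¹ * g₁ := ⟨_, rfl⟩
  have hg₂ : g₂ ∈ M24 := hg₂def ▸ M24.mul_mem (M24.inv_mem (gperm_mem_M24 (h6 b hb).1)) hg₁
  have fix2 : ∀ i ∈ [23, 0, 1, 2, 3, 5], g₂ (pt i) = pt i := by
    intro i hi
    rw [hg₂def, Equiv.Perm.mul_apply, Equiv.Perm.inv_eq_iff_eq]
    by_cases hi' : i ∈ [23, 0, 1, 2, 3]
    · rw [fix1 i hi', apply_pt (h6 b hb).1 (base5_lt i hi') ((h6 b hb).2 i hi')]
    · have : i = 5 := by simp at hi hi'; omega
      subst this; exact hb'.symm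
  have hfive2 : ∀ i, g₂ (baseFive i) = baseFive i := by
    intro i
    rw [baseFive_eq]
    exact fix2 _ (by fin_cases i <;> simp)
  -- the seventh point
  have h4out : (8536111 : ℕ).testBit (idx (g₂ (pt 4))) = false := by
    rw [Bool.eq_false_iff]
    intro hc
    have hoct2 : g₂ • baseOctad = baseOctad := by
      refine smul_octad_eq hg₂ baseOctad_mem (s := rangeOf baseFive) (by simp [rangeOf]) ?_ ?_
      · intro p hp
        simp only [rangeOf, Finset.mem_map, Finset.mem_univ, true_and] at hp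
        obtain ⟨i, rfl⟩ := hp
        exact baseFive_mem i
      · intro p hp
        simp only [rangeOf, Finset.mem_map, Finset.mem_univ, true_and] at hp
        obtain ⟨i, rfl⟩ := hp
        exact hfive2 i
    have h1 : g₂ • pt 4 ∈ g₂ • baseOctad := by
      rw [hoct2, baseOctad, mem_setOfMask]; exact hc
    rw [Finset.smul_mem_smul_finset_iff, ← base67_eq.2] at h1
    exact basePt7_notMem h1
  rcases c7 (idx (g₂ (pt 4))) (idx_lt _) with he | ⟨c, hc, hce⟩
  · rw [h4out] at he; exact absurd he (by simp)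
  have hc' := apply_pt (h7 c hc).1 (by norm_num : 4 < 24) hce
  rw [pt_idx] at hc'
  have base6_lt : ∀ i ∈ [23, 0, 1, 2, 3, 5], i < 24 := by decide
  have hone : (gperm c)⁻¹ * g₂ = 1 := by
    refine eq_one_of_base (M24.mul_mem (M24.inv_mem (gperm_mem_M24 (h7 c hc).1)) hg₂) (fun i => ?_) ?_ ?_
    · rw [Equiv.Perm.mul_apply, Equiv.Perm.inv_eq_iff_eq, hfive2 i, baseFive_eq]
      have hi : ([23, 0, 1, 2, 3].getD i.val 0) ∈ [23, 0, 1, 2, 3, 5] := by fin_cases i <;> simp
      exact (apply_pt (h7 c hc).1 (base6_lt _ hi) ((h7 c hc).2 _ hi)).symm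
    · rw [Equiv.Perm.mul_apply, Equiv.Perm.inv_eq_iff_eq, base67_eq.1, fix2 5 (by simp),
        apply_pt (h7 c hc).1 (by norm_num) ((h7 c hc).2 5 (by simp))]
    · rw [Equiv.Perm.mul_apply, Equiv.Perm.inv_eq_iff_eq, base67_eq.2, hc']
  have oka := okCode_of_inM24 (h5 a ha).1
  have okb := okCode_of_inM24 (h6 b hb).1
  have okc := okCode_of_inM24 (h7 c hc).1
  refine ⟨mulP 24 5 a (mulP 24 5 b c), List.mem_flatMap.mpr ⟨a, ha, List.mem_flatMap.mpr
    ⟨b, hb, List.mem_map.mpr ⟨c, hc, rfl⟩⟩⟩, okCode_mulP oka (okCode_mulP okb okc), ?_⟩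
  have e2 : g₂ = gperm c := (inv_mul_eq_one.mp hone).symm
  have e1 : g₁ = gperm b * gperm c := by rw [← e2, hg₂def, mul_inv_cancel_left]
  rw [gperm_mul oka (okCode_mulP okb okc), gperm_mul okb okc, ← e1, hg₁def, mul_inv_cancel_left]

/-- Every element agreeing with `h` on the first four base points is listed. -/
theorem exists_code {h : ℕ} (hh : inM24 h = true) {g : Equiv.Perm GolayPt} (hg : g ∈ M24)
    (heq : ∀ i ∈ base4, idx (g (pt i)) = getW 5 h i) :
    ∃ c ∈ cosetCodes h, okCode c = true ∧ gperm c = g := by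
  have base4_lt : ∀ i ∈ base4, i < 24 := by decide
  obtain ⟨t, ht, htok, hte⟩ := exists_tail (g := (gperm h)⁻¹ * g)
    (M24.mul_mem (M24.inv_mem (gperm_mem_M24 hh)) hg) (fun i hi => by
      rw [Equiv.Perm.mul_apply, Equiv.Perm.inv_eq_iff_eq]
      apply idx_injective
      rw [heq i hi, idx_gperm (okCode_of_inM24 hh), idx_pt (base4_lt i hi)])
  refine ⟨mulP 24 5 h t, List.mem_map.mpr ⟨t, ht, rfl⟩, okCode_mulP (okCode_of_inM24 hh) htok, ?_⟩
  rw [gperm_mul (okCode_of_inM24 hh) htok, hte, mul_inv_cancel_left]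

/-- `a ∘ b = c ∘ d` on indices. -/
def eqComp (a b c d : ℕ) : Bool :=
  (List.range 24).all fun i => Nat.beq (getW 5 a (getW 5 b i)) (getW 5 c (getW 5 d i))

theorem eqComp_iff {a b c d : ℕ} (ha : okCode a = true) (hb : okCode b = true) (hc : okCode c = true)
    (hd : okCode d = true) : eqComp a b c d = true ↔ gperm a * gperm b = gperm c * gperm d := by
  simp only [eqComp, List.all_eq_true, List.mem_range, Nat.beq_eq]
  constructor
  · intro h
    refine Equiv.ext fun p => idx_injective ?_
    simp only [Equiv.Perm.mul_apply]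
    rw [idx_gperm ha, idx_gperm hb, idx_gperm hc, idx_gperm hd]
    exact h _ (idx_lt p)
  · intro h i hi
    have := congrArg idx (Equiv.congr_fun h (pt i))
    simp only [Equiv.Perm.mul_apply] at this
    rwa [idx_gperm ha, idx_gperm hb, idx_gperm hc, idx_gperm hd, idx_pt hi] at this

/-- The number of fixed indices. -/
def fixNum (c : ℕ) : ℕ := (List.range 24).countP fun i => Nat.beq (getW 5 c i) i

theorem card_fixed {c : ℕ} (hc : okCode c = true) :
    (Finset.univ.filter fun p => gperm c p = p).card = fixNum c := by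
  have h1 : (Finset.univ.filter fun p => gperm c p = p).card =
      ((Finset.range 24).filter fun i => getW 5 c i = i).card := by
    refine Finset.card_nbij' idx pt ?_ ?_ ?_ ?_
    · intro p hp
      simp only [Finset.coe_filter, Finset.mem_univ, true_and, Set.mem_setOf_eq] at hp
      simp only [Finset.coe_filter, Finset.mem_range, Set.mem_setOf_eq]
      exact ⟨idx_lt p, by rw [← idx_gperm hc, hp]⟩
    · intro i hi
      simp only [Finset.coe_filter, Finset.mem_range, Set.mem_setOf_eq] at hi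
      simp only [Finset.coe_filter, Finset.mem_univ, true_and, Set.mem_setOf_eq]
      apply idx_injective
      rw [idx_gperm hc, idx_pt hi.1, hi.2]
    · exact fun p _ => pt_idx p
    · intro i hi
      simp only [Finset.coe_filter, Finset.mem_range, Set.mem_setOf_eq] at hi
      exact idx_pt hi.1
  rw [h1, fixNum, List.countP_eq_length_filter,
    ← List.toFinset_card_of_nodup (List.nodup_range.filter _)]
  congr 1
  ext i
  simp

end Cfsg.Agent.Lib.M24Classes.Coset
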