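import Cfsg.Agent.Lib.SporStruct.OctadOrbits
import Cfsg.Agent.Lib.Golay.M24

/-!
Orders of stabilisers of octads and of pairs of octads; restriction of a subgroup to six points.
-/

set_option autoImplicit false

namespace Cfsg.Agent.Lib.M24Classes.OctadPairs

open Cfsg Cfsg.Agent.Lib.Golay Cfsg.Agent.Lib.SporStruct
open Masks OctadOrbits
open scoped Pointwise

theorem card_inf_mul {G X : Type*} [Group G] [MulAction G X] (H : Subgroup G) (x : X) :
    (MulAction.orbit ↥H x).ncard * Nat.card ↥(H ⊓ MulAction.stabilizer G x) = Nat.card ↥H := by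
  have e : Nat.card ↥(H ⊓ MulAction.stabilizer G x) = Nat.card ↥(MulAction.stabilizer ↥H x) :=
    Nat.card_congr
      { toFun := fun g => ⟨⟨g.1, g.2.1⟩, g.2.2⟩
        invFun := fun g => ⟨g.1.1, g.1.2, g.2⟩
        left_inv := fun _ => rfl
        right_inv := fun _ => rfl }
  rw [e, ← MulAction.index_stabilizer ↥H x, mul_comm, Subgroup.card_mul_index]

/-- The stabiliser of an octad has order 322560. -/
theorem card_stab_octad {o : Finset GolayPt} (ho : o ∈ octads) :
    Nat.card ↥(MulAction.stabilizer ↥Cfsg.M24 o) = 322560 := by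
  have h : (MulAction.orbit ↥Cfsg.M24 o).ncard * Nat.card ↥(MulAction.stabilizer ↥Cfsg.M24 o) =
      Nat.card ↥Cfsg.M24 := by
    rw [← MulAction.index_stabilizer, mul_comm, Subgroup.card_mul_index]
  rw [orbit_eq ho, ncard_octads, card_M24] at h
  omega

/-- Order of the joint stabiliser times the number of octads meeting the first one alike. -/
theorem card_pair_mul {o o' : Finset GolayPt} (ho : o ∈ octads) (ho' : o' ∈ octads) :
    {y | y ∈ octads ∧ (o ∩ y).card = (o ∩ o').card}.ncard *
      Nat.card ↥(MulAction.stabilizer ↥Cfsg.M24 o ⊓ MulAction.stabilizer ↥Cfsg.M24 o') = 322560 := by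
  have e : MulAction.orbit ↥(MulAction.stabilizer ↥Cfsg.M24 o) o' =
      {y | y ∈ octads ∧ (o ∩ y).card = (o ∩ o').card} := by
    ext y
    constructor
    · rintro ⟨⟨g, hg⟩, rfl⟩
      rw [MulAction.mem_stabilizer_iff] at hg
      refine ⟨OctadOrbits.smul_mem g ho', ?_⟩
      show (o ∩ g • o').card = _
      conv_lhs => rw [← hg]
      exact card_inter_smul g o o'
    · rintro ⟨hy, hc⟩
      obtain ⟨g, hg, hgy⟩ := classes_trans ho ho' hy hc.symm
      exact ⟨⟨g, MulAction.mem_stabilizer_iff.2 hg⟩, hgy⟩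
  rw [← e, card_inf_mul, card_stab_octad ho]

theorem counts : (Nat.beq (univMasks.countP fun m => Nat.beq (pc24 (OctadData.root &&& m)) 0) 30 &&
    Nat.beq (univMasks.countP fun m => Nat.beq (pc24 (OctadData.root &&& m)) 4) 280 &&
    Nat.beq (univMasks.countP fun m => Nat.beq (pc24 (OctadData.root &&& m)) 2) 448) = true := by
  decide +kernel

/-- Orders of the joint stabilisers of two octads. -/
theorem card_pair {o o' : Finset GolayPt} (ho : o ∈ octads) (ho' : o' ∈ octads) :
    ((o ∩ o').card = 0 → Nat.card ↥(MulAction.stabilizer ↥Cfsg.M24 o ⊓ MulAction.stabilizer ↥Cfsg.M24 o') = 10752) ∧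
    ((o ∩ o').card = 4 → Nat.card ↥(MulAction.stabilizer ↥Cfsg.M24 o ⊓ MulAction.stabilizer ↥Cfsg.M24 o') = 1152) ∧
    ((o ∩ o').card = 2 → Nat.card ↥(MulAction.stabilizer ↥Cfsg.M24 o ⊓ MulAction.stabilizer ↥Cfsg.M24 o') = 720) := by
  have hk := counts
  simp only [Bool.and_eq_true, Nat.beq_eq] at hk
  have h := card_pair_mul ho ho'
  refine ⟨fun e => ?_, fun e => ?_, fun e => ?_⟩ <;> rw [e, ncard_class ho] at h
  · rw [hk.1.1] at h; omega
  · rw [hk.1.2] at h; omega
  · rw [hk.2] at h; omega

section Restrict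

variable {G X : Type*} [Group G] [MulAction G X] [DecidableEq X] (H : Subgroup G) (C : Finset X)
  (hC : ∀ g ∈ H, g • C = C)

include hC in
theorem smul_mem_iff (g : ↥H) (p : X) : (g : G) • p ∈ C ↔ p ∈ C := by
  conv_lhs => rw [← hC g g.2]
  exact Finset.smul_mem_smul_finset_iff _

/-- Restriction to a stable set. -/
def restrict : ↥H →* Equiv.Perm ↥C where
  toFun g := (MulAction.toPerm (g : G)).subtypePerm (fun p => smul_mem_iff H C hC g p)
  map_one' := Equiv.ext fun p => Subtype.ext (one_smul G (p : X))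
  map_mul' g h := Equiv.ext fun p => Subtype.ext (mul_smul (g : G) (h : G) (p : X))

@[simp] theorem restrict_apply (g : ↥H) (p : ↥C) : ((restrict H C hC g) p : X) = (g : G) • (p : X) := rfl

include hC in
/-- A faithful action on six points by all permutations gives the symmetric group. -/
theorem nonempty_equiv_perm_six (hcard : C.card = 6)
    (hinj : ∀ g ∈ H, (∀ p ∈ C, g • p = p) → g = 1)
    (hsurj : Function.Surjective (restrict H C hC) ∨ Nat.card ↥H = 720) :
    Nonempty (↥H ≃* Equiv.Perm (Fin 6)) := by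
  have hi : Function.Injective (restrict H C hC) := by
    rw [injective_iff_map_eq_one]
    intro g hg
    refine Subtype.ext (hinj g g.2 fun p hp => ?_)
    exact congrArg Subtype.val (Equiv.congr_fun hg ⟨p, hp⟩)
  have hb : Function.Bijective (restrict H C hC) := by
    rcases hsurj with h | h
    · exact ⟨hi, h⟩
    · refine (Nat.bijective_iff_injective_and_card _).mpr ⟨hi, ?_⟩
      rw [h, Nat.card_perm, Nat.card_eq_fintype_card, Fintype.card_coe, hcard]
      rfl
  exact ⟨(MulEquiv.ofBijective _ hb).trans (Equiv.permCongrHom (C.equivFinOfCardEq hcard))⟩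

end Restrict

end Cfsg.Agent.Lib.M24Classes.OctadPairs
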