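import Cfsg.Agent.Lib.M24Classes.Classes

/-!
Certified enumeration of a subgroup given by a test: coset representatives for the images of the
first base point, and all elements fixing it.
-/

set_option autoImplicit false

namespace Cfsg.Agent.Lib.M24Classes.Enum

open Cfsg Cfsg.Agent.Lib.Golay Cfsg.Agent.Lib.Computation Coset
open Classes (P)

/-- Strictly increasing. -/
def incFrom : ℕ → List ℕ → Bool
  | _, [] => true
  | b, a :: l => Nat.blt b a && incFrom a l

/-- Strictly increasing list. -/
def incList : List ℕ → Bool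
  | [] => true
  | a :: l => incFrom a l

theorem incFrom_pairwise : ∀ {l : List ℕ} {b : ℕ}, incFrom b l = true → (b :: l).Pairwise (· < ·)
  | [], b, _ => List.pairwise_singleton _ b
  | a :: l, b, h => by
    simp only [incFrom, Bool.and_eq_true, Nat.blt_eq] at h
    have ih := incFrom_pairwise h.2
    refine List.pairwise_cons.2 ⟨fun c hc => ?_, ih⟩
    rcases List.mem_cons.1 hc with rfl | hc
    · exact h.1
    · exact lt_trans h.1 ((List.pairwise_cons.1 ih).1 c hc)

theorem incList_nodup : ∀ {l : List ℕ}, incList l = true → l.Nodup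
  | [], _ => List.nodup_nil
  | _ :: _, h => (incFrom_pairwise h).imp (fun hab => Nat.ne_of_lt hab)

/-- The members of the cosets passing the test. -/
def found (test : ℕ → Bool) (cosets : List ℕ) : List ℕ :=
  cosets.flatMap fun h => (cosetCodes h).filter test

/-- The certificate. -/
def enumOk (test okPt : ℕ → Bool) (orb cosets stab : List ℕ) : Bool :=
  (orb.all fun c => inM24 c && test c) &&
  incList (orb.map fun c => getW 5 c 23) &&
  ((List.range 24).all fun p => !okPt p || orb.any fun c => Nat.beq (getW 5 c 23) p) &&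
  (stab.all fun c => inM24 c && test c && Nat.beq (getW 5 c 23) 23 && Nat.beq (packW 5 (fun i => getW 5 c i) 24) c) &&
  incList stab &&
  (cosets.all fun c => inM24 c)

theorem tails_mem : ∀ {t : ℕ}, t ∈ tails → inM24 t = true := by
  have h : tails.all (fun t => inM24 t) = true := by decide +kernel
  exact fun {t} ht => List.all_eq_true.mp h t ht

theorem gperm_injOn {a b : ℕ} (ha : okCode a = true) (hb : okCode b = true)
    (ea : packW 5 (fun i => getW 5 a i) 24 = a) (eb : packW 5 (fun i => getW 5 b i) 24 = b)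
    (h : gperm a = gperm b) : a = b := by
  have key : ∀ i, i < 24 → getW 5 a i = getW 5 b i := fun i hi => by
    have := congrArg idx (Equiv.congr_fun h (pt i))
    rwa [idx_gperm ha, idx_gperm hb, idx_pt hi] at this
  have hp : ∀ k, k ≤ 24 → packW 5 (fun i => getW 5 a i) k = packW 5 (fun i => getW 5 b i) k := by
    intro k
    induction k with
    | zero => intro _; rfl
    | succ k ih => intro hk; rw [packW_succ, packW_succ, ih (by omega), key k (by omega)]
  rw [← ea, ← eb, hp 24 le_rfl]

variable {K : Subgroup P} {test okPt : ℕ → Bool} {orb cosets stab : List ℕ}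

theorem mem_found (hKle : K ≤ M24) (htest : ∀ c, okCode c = true → (test c = true ↔ gperm c ∈ K))
    (hok : enumOk test okPt orb cosets stab = true)
    (hcos : ∀ g ∈ K, g (pt 23) = pt 23 → ∃ h ∈ cosets, ∀ i ∈ base4, idx (g (pt i)) = getW 5 h i)
    {g : P} (hg : g ∈ K) (hfix : g (pt 23) = pt 23) :
    ∃ c ∈ found test cosets, okCode c = true ∧ gperm c = g := by
  simp only [enumOk, Bool.and_eq_true, List.all_eq_true] at hok
  obtain ⟨h, hh, heq⟩ := hcos g hg hfix
  obtain ⟨c, hc, hcok, hce⟩ := exists_code (hok.2 h hh) (hKle hg) heq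
  exact ⟨c, List.mem_flatMap.mpr ⟨h, hh, List.mem_filter.mpr ⟨hc, (htest c hcok).mpr (hce ▸ hg)⟩⟩, hcok, hce⟩

/-- Every element is a product of a representative and an element fixing `∞`. -/
theorem exists_product (hKle : K ≤ M24) (htest : ∀ c, okCode c = true → (test c = true ↔ gperm c ∈ K))
    (hpt : ∀ g ∈ K, okPt (idx (g (pt 23))) = true)
    (hok : enumOk test okPt orb cosets stab = true)
    (hcos : ∀ g ∈ K, g (pt 23) = pt 23 → ∃ h ∈ cosets, ∀ i ∈ base4, idx (g (pt i)) = getW 5 h i)
    {g : P} (hg : g ∈ K) :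
    ∃ a ∈ orb, ∃ b ∈ found test cosets, okCode b = true ∧ g = gperm a * gperm b := by
  have hok' := hok
  simp only [enumOk, Bool.and_eq_true, List.all_eq_true, List.any_eq_true, Bool.or_eq_true,
    Bool.not_eq_true', Nat.beq_eq] at hok
  rcases hok.1.1.1.2 (idx (g (pt 23))) (List.mem_range.mpr (idx_lt _)) with h | ⟨a, ha, hae⟩
  · rw [hpt g hg] at h; exact absurd h (by simp)
  have ha2 := hok.1.1.1.1.1 a ha
  have oa := okCode_of_inM24 ha2.1
  have haK : gperm a ∈ K := (htest a oa).mp ha2.2
  obtain ⟨b, hb, hbok, hbe⟩ := mem_found hKle htest hok' hcos (g := (gperm a)⁻¹ * g)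
    (K.mul_mem (K.inv_mem haK) hg) (by
      rw [Equiv.Perm.mul_apply, Equiv.Perm.inv_eq_iff_eq]
      apply idx_injective
      rw [idx_gperm oa, idx_pt (by norm_num : 23 < 24), hae])
  exact ⟨a, ha, b, hb, hbok, by rw [hbe, mul_inv_cancel_left]⟩

/-- The certified products are distinct members. -/
theorem products_injective (htest : ∀ c, okCode c = true → (test c = true ↔ gperm c ∈ K))
    (hok : enumOk test okPt orb cosets stab = true) :
    ∃ hm : ∀ ab : {a // a ∈ orb} × {b // b ∈ stab}, gperm ab.1.1 * gperm ab.2.1 ∈ K,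
      Function.Injective fun ab => (⟨_, hm ab⟩ : ↥K) := by
  simp only [enumOk, Bool.and_eq_true, List.all_eq_true, Nat.beq_eq] at hok
  obtain ⟨⟨⟨⟨⟨horb, hinc⟩, -⟩, hstab⟩, -⟩, -⟩ := hok
  have hmem : ∀ ab : {a // a ∈ orb} × {b // b ∈ stab}, gperm ab.1.1 * gperm ab.2.1 ∈ K := fun ab =>
    K.mul_mem ((htest _ (okCode_of_inM24 (horb _ ab.1.2).1)).mp (horb _ ab.1.2).2)
      ((htest _ (okCode_of_inM24 (hstab _ ab.2.2).1.1.1)).mp (hstab _ ab.2.2).1.1.2)
  have hinj : Function.Injective fun ab => (⟨_, hmem ab⟩ : ↥K) := by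
    rintro ⟨⟨a, ha⟩, ⟨b, hb⟩⟩ ⟨⟨a', ha'⟩, ⟨b', hb'⟩⟩ h
    have h' : gperm a * gperm b = gperm a' * gperm b' := congrArg Subtype.val h
    have oa := okCode_of_inM24 (horb a ha).1
    have oa' := okCode_of_inM24 (horb a' ha').1
    obtain ⟨⟨⟨hb1, -⟩, hb23⟩, hbc⟩ := hstab b hb
    obtain ⟨⟨⟨hb1', -⟩, hb23'⟩, hbc'⟩ := hstab b' hb'
    have hp : getW 5 a 23 = getW 5 a' 23 := by
      have := congrArg idx (Equiv.congr_fun h' (pt 23))
      simp only [Equiv.Perm.mul_apply] at this
      rwa [idx_gperm oa, idx_gperm oa', idx_gperm (okCode_of_inM24 hb1),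
        idx_gperm (okCode_of_inM24 hb1'), idx_pt (by norm_num : 23 < 24), hb23, hb23'] at this
    obtain rfl : a = a' := List.inj_on_of_nodup_map (incList_nodup hinc) ha ha' hp
    have hbb := gperm_injOn (okCode_of_inM24 hb1) (okCode_of_inM24 hb1') hbc hbc' (mul_left_cancel h')
    subst hbb
    rfl
  exact ⟨hmem, hinj⟩

/-- The order of the subgroup. -/
theorem card_eq (hKle : K ≤ M24) (htest : ∀ c, okCode c = true → (test c = true ↔ gperm c ∈ K))
    (hpt : ∀ g ∈ K, okPt (idx (g (pt 23))) = true)
    (hok : enumOk test okPt orb cosets stab = true)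
    (hcos : ∀ g ∈ K, g (pt 23) = pt 23 → ∃ h ∈ cosets, ∀ i ∈ base4, idx (g (pt i)) = getW 5 h i)
    (hlen : (found test cosets).length = stab.length) :
    Nat.card ↥K = orb.length * stab.length := by
  classical
  have hok' := hok
  have hprod := fun g hg => exists_product hKle htest hpt hok hcos (g := g) hg
  simp only [enumOk, Bool.and_eq_true, List.all_eq_true, Nat.beq_eq] at hok
  obtain ⟨⟨⟨⟨⟨horb, hinc⟩, -⟩, hstab⟩, hsinc⟩, -⟩ := hok
  apply le_antisymm
  · -- every element is one of the products
    have hsub : (K : Set P) ⊆ ((orb.toFinset ×ˢ (found test cosets).toFinset).image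
        (fun ab => gperm ab.1 * gperm ab.2) : Finset P) := by
      intro g hg
      obtain ⟨a, ha, b, hb, -, rfl⟩ := hprod g hg
      exact Finset.mem_image.mpr ⟨(a, b), Finset.mem_product.mpr
        ⟨List.mem_toFinset.mpr ha, List.mem_toFinset.mpr hb⟩, rfl⟩
    calc Nat.card ↥K = (K : Set P).ncard := Nat.card_coe_set_eq (K : Set P)
      _ ≤ _ := Set.ncard_le_ncard hsub (Finset.finite_toSet _)
      _ ≤ orb.length * stab.length := by
        rw [Set.ncard_coe_finset]
        refine Finset.card_image_le.trans ?_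
        rw [Finset.card_product, ← hlen]
        exact Nat.mul_le_mul (List.toFinset_card_le _) (List.toFinset_card_le _)
  · -- the certified products are distinct members
    refine le_trans (le_of_eq ?_) (Nat.card_le_card_of_injective _ (products_injective htest hok').choose_spec)
    have horbnd : orb.Nodup := (incList_nodup hinc).of_map _
    rw [Nat.card_prod]
    simp only [Nat.card_eq_fintype_card, Fintype.card_of_subtype orb.toFinset (fun x => List.mem_toFinset),
      Fintype.card_of_subtype stab.toFinset (fun x => List.mem_toFinset),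
      List.toFinset_card_of_nodup horbnd, List.toFinset_card_of_nodup (incList_nodup hsinc)]

/-- Every element is a certified product. -/
theorem exists_stab_product (hKle : K ≤ M24) (htest : ∀ c, okCode c = true → (test c = true ↔ gperm c ∈ K))
    (hpt : ∀ g ∈ K, okPt (idx (g (pt 23))) = true)
    (hok : enumOk test okPt orb cosets stab = true)
    (hcos : ∀ g ∈ K, g (pt 23) = pt 23 → ∃ h ∈ cosets, ∀ i ∈ base4, idx (g (pt i)) = getW 5 h i)
    (hlen : (found test cosets).length = stab.length) {g : P} (hg : g ∈ K) :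
    ∃ a ∈ orb, ∃ b ∈ stab, g = gperm a * gperm b := by
  classical
  have hc := card_eq hKle htest hpt hok hcos hlen
  obtain ⟨hm, hinj⟩ := products_injective htest hok
  have hnd : orb.Nodup ∧ stab.Nodup := by
    simp only [enumOk, Bool.and_eq_true] at hok
    exact ⟨(incList_nodup hok.1.1.1.1.2).of_map _, incList_nodup hok.1.2⟩
  have hcard : Nat.card ({a // a ∈ orb} × {b // b ∈ stab}) = Nat.card ↥K := by
    rw [Nat.card_prod, hc]
    simp only [Nat.card_eq_fintype_card, Fintype.card_of_subtype orb.toFinset (fun x => List.mem_toFinset),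
      Fintype.card_of_subtype stab.toFinset (fun x => List.mem_toFinset),
      List.toFinset_card_of_nodup hnd.1, List.toFinset_card_of_nodup hnd.2]
  obtain ⟨⟨⟨a, ha⟩, ⟨b, hb⟩⟩, h⟩ := ((Nat.bijective_iff_injective_and_card _).mpr ⟨hinj, hcard⟩).2 ⟨g, hg⟩
  exact ⟨a, ha, b, hb, (congrArg Subtype.val h).symm⟩

theorem inM24_of_mem {c : ℕ} (hc : okCode c = true) (h : gperm c ∈ M24) : inM24 c = true := by
  simp only [inM24, hc, Bool.true_and, List.all_eq_true]
  intro r hr
  have h1 := smul_mem_supports h (row_mem_octads hr).1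
  rw [smul_setOfMask hc] at h1
  obtain ⟨k, hk, he⟩ := mem_supports_iff.mp h1
  rw [setOfMask_injOn (permMask_lt hc r) (enc_lt hk) he]
  exact inCode_enc hk

/-- The test for commuting with the element coded by `r`. -/
def commTest (r c : ℕ) : Bool := eqComp c r r c && inM24 c

theorem commTest_iff {r c : ℕ} (hr : inM24 r = true) (hc : okCode c = true) :
    commTest r c = true ↔ gperm c ∈ M24 ⊓ Subgroup.centralizer ({gperm r} : Set P) := by
  rw [commTest, Bool.and_eq_true, eqComp_iff hc (okCode_of_inM24 hr) (okCode_of_inM24 hr) hc,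
    Subgroup.mem_inf, Subgroup.mem_centralizer_iff]
  exact ⟨fun h => ⟨gperm_mem_M24 h.2, fun x hx => by rw [Set.mem_singleton_iff.mp hx]; exact h.1.symm⟩,
    fun h => ⟨(h.2 _ rfl).symm, inM24_of_mem hc h.1⟩⟩

/-- Commuting with `r`, tested on an uncomputed product. -/
def commPre (r h t : ℕ) : Bool :=
  ((List.range 24).all fun i =>
    Nat.beq (getW 5 h (getW 5 t (getW 5 r i))) (getW 5 r (getW 5 h (getW 5 t i)))) &&
    inM24 (mulP 24 5 h t)

/-- `found` for the commuting test, without computing the products. -/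
def foundComm (r : ℕ) (cosets : List ℕ) : List ℕ :=
  cosets.flatMap fun h => (tails.filter (commPre r h)).map (mulP 24 5 h)

theorem getW_mul {a b i : ℕ} (hi : i < 24) :
    getW 5 (mulP 24 5 a b) i = getW 5 a (getW 5 b i) := by
  simp only [mulP, forceNat_eq]
  rw [getW_packW ?_ hi]
  intro x _
  exact getW_eq 5 a _ ▸ Nat.mod_lt _ (Nat.two_pow_pos 5)

theorem found_commTest {r : ℕ} (hr : inM24 r = true) {cosets : List ℕ} :
    found (commTest r) cosets = foundComm r cosets := by
  unfold found foundComm cosetCodes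
  refine congrArg (fun f => List.flatMap f cosets) (funext fun h => ?_)
  rw [List.filter_map]
  refine congrArg _ (List.filter_congr fun t ht => ?_)
  simp only [Function.comp_apply, commTest, commPre]
  refine congrArg (· && _) ?_
  have ot := okCode_of_inM24 (tails_mem ht)
  have or' := okCode_of_inM24 hr
  rw [eqComp, Bool.eq_iff_iff]
  simp only [List.all_eq_true, List.mem_range, Nat.beq_eq]
  constructor <;> intro hh i hi <;> have := hh i hi
  · rwa [getW_mul (getW_lt or' hi), getW_mul hi] at this
  · rwa [getW_mul (getW_lt or' hi), getW_mul hi]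

end Cfsg.Agent.Lib.M24Classes.Enum
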