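import Cfsg.Agent.Lib.M24Classes.Classes
import Cfsg.Agent.Lib.SporStruct.OctadOrbits
import Cfsg.Agent.Lib.SporStruct.DodecadOrbits
import Cfsg.Agent.Lib.SporStruct.SextetOrbits
import Cfsg.Agent.Lib.SporStruct.TrioOrbits

/-!
Counting the octads, dodecads, trios and sextets left invariant by an element of the group of the code.
-/

set_option autoImplicit false

namespace Cfsg.Agent.Lib.M24Classes.Invariant

open Cfsg Cfsg.Agent.Lib.Golay Cfsg.Agent.Lib.SporStruct
open Cfsg.Agent.Lib.M24Classes.Classes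
open scoped Pointwise

theorem gperm_eq_perm {c : ℕ} (hc : okCode c = true) : gperm c = PermCodes.perm c :=
  Equiv.ext fun p => idx_injective (by rw [idx_gperm hc, PermCodes.idx_perm hc])

/-- Conjugate elements fix equally many members of an invariant family. -/
theorem ncard_conj {X : Type*} [MulAction P X] {F : Set X}
    (hF : ∀ k : ↥Cfsg.M24, ∀ x ∈ F, (k : P) • x ∈ F) {m : P} (hm : m ∈ Cfsg.M24) (r : P) :
    {x | x ∈ F ∧ (m * r * m⁻¹) • x = x}.ncard = {x | x ∈ F ∧ r • x = x}.ncard := by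
  have e : {x | x ∈ F ∧ (m * r * m⁻¹) • x = x} = (fun x => m • x) '' {x | x ∈ F ∧ r • x = x} := by
    ext x
    constructor
    · rintro ⟨hx, hfix⟩
      refine ⟨m⁻¹ • x, ⟨hF ⟨_, Cfsg.M24.inv_mem hm⟩ x hx, ?_⟩, smul_inv_smul m x⟩
      rw [mul_smul, mul_smul] at hfix
      exact (inv_smul_smul m _).symm.trans (congrArg (fun z => m⁻¹ • z) hfix)
    · rintro ⟨y, ⟨hy, hfix⟩, rfl⟩
      refine ⟨hF ⟨m, hm⟩ y hy, ?_⟩
      simp only [← mul_smul]
      rw [show m * r * m⁻¹ * m = m * r by group, mul_smul, hfix]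
  rw [e, Set.ncard_image_of_injective _ (MulAction.injective m)]

/-- The fixed members of a coded family. -/
theorem ncard_code {X : Type*} [MulAction P X] {F : Set X} {E : X → ℕ} (hinj : Set.InjOn E F)
    {U : List ℕ} (hnd : U.Nodup) (hU : ∀ m, m ∈ U ↔ ∃ x ∈ F, E x = m) {act : ℕ → ℕ} {r : P}
    (hF : ∀ x ∈ F, r • x ∈ F) (hE : ∀ x ∈ F, E (r • x) = act (E x)) :
    {x | x ∈ F ∧ r • x = x}.ncard = U.countP (fun m => Nat.beq (act m) m) := by
  rw [← CodedOrbit.class_ncard hinj hnd hU]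
  congr 1
  ext x
  simp only [Set.mem_ofPred_eq, Nat.beq_eq]
  exact ⟨fun h => ⟨h.1, by rw [← hE x h.1, h.2]⟩,
    fun h => ⟨h.1, hinj (hF x h.1) h.1 (by rw [hE x h.1, h.2])⟩⟩

/-- Number of masks fixed. -/
def maskFix (c : ℕ) (U : List ℕ) : ℕ := U.countP fun m => Nat.beq (PermCodes.imgMask c m) m

/-- Number of coded families fixed. -/
def famFix (k c : ℕ) (U : List ℕ) : ℕ := U.countP fun m => Nat.beq (FamilyCode.act k c m) m

theorem octads_count {g : P} {m : P} (hm : m ∈ Cfsg.M24) {c : ℕ} (hc : inM24 c = true)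
    (e : g = m * gperm c * m⁻¹) :
    {o : Finset GolayPt | o ∈ octads ∧ g • o = o}.ncard = maskFix c OctadOrbits.univMasks := by
  rw [e, ncard_conj (F := octads) (fun k x hx => OctadOrbits.smul_mem k hx) hm]
  exact ncard_code Masks.maskOfSet_injective.injOn OctadOrbits.univ_nodup OctadOrbits.mem_univMasks
    (fun x hx => OctadOrbits.smul_mem ⟨_, gperm_mem_M24 hc⟩ hx)
    (fun x _ => by rw [gperm_eq_perm (okCode_of_inM24 hc)]; exact PermCodes.maskOfSet_smul (okCode_of_inM24 hc) x)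

theorem dodecads_count {g : P} {m : P} (hm : m ∈ Cfsg.M24) {c : ℕ} (hc : inM24 c = true)
    (e : g = m * gperm c * m⁻¹) :
    {o : Finset GolayPt | o ∈ dodecads ∧ g • o = o}.ncard = maskFix c DodecadOrbits.univMasks := by
  rw [e, ncard_conj (F := dodecads) (fun k x hx => DodecadOrbits.smul_mem k hx) hm]
  exact ncard_code Masks.maskOfSet_injective.injOn DodecadOrbits.univ_nodup DodecadOrbits.mem_univMasks
    (fun x hx => DodecadOrbits.smul_mem ⟨_, gperm_mem_M24 hc⟩ hx)
    (fun x _ => by rw [gperm_eq_perm (okCode_of_inM24 hc)]; exact PermCodes.maskOfSet_smul (okCode_of_inM24 hc) x)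

theorem trios_count {g : P} {m : P} (hm : m ∈ Cfsg.M24) {c : ℕ} (hc : inM24 c = true)
    (e : g = m * gperm c * m⁻¹) :
    {T : Finset (Finset GolayPt) | T ∈ trios ∧ g • T = T}.ncard = famFix 3 c TrioOrbits.univCodes := by
  rw [e, ncard_conj (F := trios) (fun k x hx => TrioOrbits.smul_mem k hx) hm]
  exact ncard_code TrioOrbits.code_injOn_set TrioOrbits.univ_nodup TrioOrbits.mem_univCodes
    (fun x hx => TrioOrbits.smul_mem ⟨_, gperm_mem_M24 hc⟩ hx)
    (fun x hx => by rw [gperm_eq_perm (okCode_of_inM24 hc)]; exact FamilyCode.code_smul (okCode_of_inM24 hc) x hx.1)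

theorem sextets_count {g : P} {m : P} (hm : m ∈ Cfsg.M24) {c : ℕ} (hc : inM24 c = true)
    (e : g = m * gperm c * m⁻¹) :
    {S : Finset (Finset GolayPt) | S ∈ sextets ∧ g • S = S}.ncard = famFix 6 c SextetOrbits.univCodes := by
  rw [e, ncard_conj (F := sextets) (fun k x hx => SextetOrbits.smul_mem k hx) hm]
  exact ncard_code SextetOrbits.code_injOn_set SextetOrbits.univ_nodup SextetOrbits.mem_univCodes
    (fun x hx => SextetOrbits.smul_mem ⟨_, gperm_mem_M24 hc⟩ hx)
    (fun x hx => by rw [gperm_eq_perm (okCode_of_inM24 hc)]; exact FamilyCode.code_smul (okCode_of_inM24 hc) x hx.1)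

end Cfsg.Agent.Lib.M24Classes.Invariant
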